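import Mathlib.AlgebraicGeometry.RelativeGluing
import Mathlib.AlgebraicGeometry.Cover.Directed
import Mathlib.AlgebraicGeometry.Morphisms.Basic
import Mathlib.CategoryTheory.Comma.Over.Basic

/-!
Representability of a Zariski sheaf on schemes over a base is local on the affine opens of the base.
-/

set_option backward.isDefEq.respectTransparency false

universe v u

open CategoryTheory CategoryTheory.Limits AlgebraicGeometry

namespace GrothLib.RepLocal

variable {S : Scheme.{u}}

/-- A presheaf of types on schemes over `S`. -/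
structure Psh (S : Scheme.{u}) where
  /-- sections -/
  obj : Over S → Type v
  /-- restriction -/
  map : ∀ {T T' : Over S}, (T' ⟶ T) → obj T → obj T'
  map_id : ∀ (T : Over S) (x : obj T), map (𝟙 T) x = x
  map_comp : ∀ {T T' T'' : Over S} (f : T' ⟶ T) (g : T'' ⟶ T') (x : obj T), map (g ≫ f) x = map g (map f x)

/-- The restriction of an `S`-scheme to an open of `S`. -/
noncomputable def res (T : Over S) (U : S.Opens) : Over S := Over.mk (pullback.fst T.hom U.ι ≫ T.hom)

/-- The inclusion of a restriction. -/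
noncomputable def resι (T : Over S) (U : S.Opens) : res T U ⟶ T := Over.homMk (pullback.fst T.hom U.ι) rfl

/-- Transition between restrictions. -/
noncomputable def resMap (T : Over S) {U V : S.Opens} (h : U ≤ V) : res T U ⟶ res T V :=
  Over.homMk (pullback.map T.hom U.ι T.hom V.ι (𝟙 _) (S.homOfLE h) (𝟙 _) (by simp) (by simp)) (by
    change _ ≫ pullback.fst T.hom V.ι ≫ T.hom = pullback.fst T.hom U.ι ≫ T.hom
    rw [pullback.lift_fst_assoc, Category.comp_id])

theorem resMap_resι (T : Over S) {U V : S.Opens} (h : U ≤ V) : resMap T h ≫ resι T V = resι T U :=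
  Over.OverMorphism.ext ((pullback.lift_fst _ _ _).trans (Category.comp_id _))

/-- `T` lies over `U`. -/
def Inside (T : Over S) (U : S.Opens) : Prop := ∃ q : T.left ⟶ (U : Scheme.{u}), q ≫ U.ι = T.hom

theorem inside_res (T : Over S) (U : S.Opens) : Inside (res T U) U :=
  ⟨pullback.snd T.hom U.ι, pullback.condition.symm⟩

theorem Inside.of_hom {T T' : Over S} {U : S.Opens} (h : Inside T U) (f : T' ⟶ T) : Inside T' U := by
  obtain ⟨q, hq⟩ := h
  exact ⟨f.left ≫ q, by rw [Category.assoc, hq, Over.w f]⟩

theorem Inside.mono {T : Over S} {U V : S.Opens} (h : Inside T U) (hUV : U ≤ V) : Inside T V := by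
  obtain ⟨q, hq⟩ := h
  exact ⟨q ≫ S.homOfLE hUV, by rw [Category.assoc, Scheme.homOfLE_ι, hq]⟩

/-- The gluing axiom for the affine opens of the base. -/
def IsLocal (P : Psh.{v} S) : Prop :=
  ∀ (T : Over S) (x : ∀ U : S.affineOpens, P.obj (res T U.1)),
    (∀ (U V : S.affineOpens) (h : U.1 ≤ V.1), P.map (resMap T h) (x V) = x U) →
      ∃! y : P.obj T, ∀ U : S.affineOpens, P.map (resι T U.1) y = x U

/-- `n` is universal among sections over schemes lying over `U`. -/
def RepOn (P : Psh.{v} S) (U : S.Opens) (N : Over S) (n : P.obj N) : Prop :=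
  Inside N U ∧ ∀ T : Over S, Inside T U → ∀ x : P.obj T, ∃! a : T ⟶ N, P.map a n = x

theorem IsLocal.ext {P : Psh.{v} S} (hP : IsLocal P) {T : Over S} {y y' : P.obj T}
    (h : ∀ U : S.affineOpens, P.map (resι T U.1) y = P.map (resι T U.1) y') : y = y' := by
  obtain ⟨z, -, hu⟩ := hP T (fun U => P.map (resι T U.1) y) fun U V hUV => by
    rw [← P.map_comp, resMap_resι]
  exact (hu y fun U => rfl).trans (hu y' fun U => (h U).symm).symm

/-- A Zariski sheaf representable over every affine open of the base is representable. -/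
theorem exists_representing (P : Psh.{v} S) (hP : IsLocal P)
    (hloc : ∀ U : S.affineOpens, ∃ (N : Over S) (n : P.obj N), RepOn P U.1 N n) :
    ∃ (M : Over S) (m : P.obj M), ∀ (T : Over S) (x : P.obj T), ∃! a : T ⟶ M, P.map a m = x := by
  choose N n hN using hloc
  choose q hq using fun U : S.affineOpens => (hN U).1
  have hin : ∀ {U V : S.affineOpens}, U.1 ≤ V.1 → Inside (N U) V.1 := fun {U V} h => (hN U).1.mono h
  choose tr htr htru using fun (U V : S.affineOpens) (h : U.1 ≤ V.1) => (hN V).2 (N U) (hin h) (n U)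
  have hqw : ∀ (U V : S.affineOpens) (h : U.1 ≤ V.1), (tr U V h).left ≫ q V = q U ≫ S.homOfLE h := by
    intro U V h
    rw [← cancel_mono V.1.ι, Category.assoc, Category.assoc, hq, Scheme.homOfLE_ι, hq, Over.w]
  have hpb : ∀ (U V : S.affineOpens) (h : U.1 ≤ V.1), IsPullback (tr U V h).left (q U) (q V) (S.homOfLE h) := by
    intro U V h
    have hex : ∀ s : PullbackCone (q V) (S.homOfLE h), ∃ m : s.pt ⟶ (N U).left,
        m ≫ (tr U V h).left = s.fst ∧ m ≫ q U = s.snd ∧
          ∀ m' : s.pt ⟶ (N U).left, m' ≫ (tr U V h).left = s.fst → m' ≫ q U = s.snd → m' = m := by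
      intro s
      let T : Over S := Over.mk (s.snd ≫ U.1.ι)
      have hT : Inside T U.1 := ⟨s.snd, rfl⟩
      let f : T ⟶ N V := Over.homMk s.fst (by
        change s.fst ≫ (N V).hom = s.snd ≫ U.1.ι
        rw [← hq, reassoc_of% s.condition, Scheme.homOfLE_ι])
      obtain ⟨a, ha, hau⟩ := (hN U).2 T hT (P.map f (n V))
      have haf : a ≫ tr U V h = f := ((hN V).2 T (hT.mono h) (P.map f (n V))).unique
        (by rw [P.map_comp, htr, ha]) rfl
      refine ⟨a.left, congrArg (fun t => t.left) haf, ?_, fun m' h1 h2 => ?_⟩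
      · rw [← cancel_mono U.1.ι, Category.assoc, hq]
        exact Over.w a
      · let a' : T ⟶ N U := Over.homMk m' (by
          change m' ≫ (N U).hom = s.snd ≫ U.1.ι
          rw [← hq, reassoc_of% h2])
        have haf' : a' ≫ tr U V h = f := Over.OverMorphism.ext h1
        exact congrArg (fun t => t.left) (hau a' (show P.map a' (n U) = P.map f (n V) by
          rw [← htr U V h, ← P.map_comp, haf']))
    choose m hm₁ hm₂ hmu using hex
    exact ⟨⟨hqw U V h⟩, ⟨PullbackCone.IsLimit.mk _ m hm₁ hm₂ fun s m' h1 h2 => hmu s m' h1 h2⟩⟩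
  haveI : Quiver.IsThin S.directedAffineCover.I₀ := inferInstanceAs (Quiver.IsThin S.affineOpens)
  let d : Scheme.Cover.RelativeGluingData S.directedAffineCover :=
    { functor :=
        { obj := fun U : S.affineOpens => (N U).left
          map := fun {U V} f => (tr U V (leOfHom f)).left
          map_id := fun U => congrArg (fun t => t.left) (htru U U le_rfl (𝟙 _) (P.map_id _ _)).symm
          map_comp := fun {U V W} f g => congrArg (fun t => t.left)
            (htru U W (leOfHom (f ≫ g)) (tr U V (leOfHom f) ≫ tr V W (leOfHom g))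
              (by change P.map _ (n W) = n U; rw [P.map_comp, htr, htr])).symm }
      natTrans := { app := q, naturality := fun U V f => hqw U V (leOfHom f) }
      equifibered := fun {U V} f => hpb U V (leOfHom f) }
  haveI : (d.functor ⋙ Scheme.forget).IsLocallyDirected :=
    Scheme.Cover.RelativeGluingData.instIsLocallyDirectedI₀CompFunctorForgetOfIsThin ..
  haveI : ∀ {i j : S.directedAffineCover.I₀} (f : i ⟶ j), IsOpenImmersion (d.functor.map f) := fun f =>
    MorphismProperty.of_isPullback (P := @IsOpenImmersion) (d.equifibered f).flip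
      (S.directedAffineCover.property_trans f)
  haveI : HasColimit d.functor := by infer_instance
  let M : Over S := Over.mk (d.toBase : d.glued ⟶ S)
  have hPB : ∀ U : S.affineOpens, IsPullback (q U) (colimit.ι d.functor U) U.1.ι d.toBase :=
    fun U => d.isPullback_natTrans_ι_toBase U
  let ιM : ∀ U : S.affineOpens, N U ⟶ M := fun U => Over.homMk (colimit.ι d.functor U)
    ((hPB U).w.symm.trans (hq U))
  have hιtr : ∀ (U V : S.affineOpens) (h : U.1 ≤ V.1), tr U V h ≫ ιM V = ιM U := fun U V h =>
    Over.OverMorphism.ext (colimit.w d.functor (homOfLE h : (U : S.directedAffineCover.I₀) ⟶ V))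
  haveI : ∀ U : S.affineOpens, IsOpenImmersion (colimit.ι d.functor U) := fun U =>
    MorphismProperty.of_isPullback (P := @IsOpenImmersion) (hPB U) inferInstance
  haveI : ∀ U : S.affineOpens, Mono (ιM U) := fun U =>
    (Over.forget S).mono_of_mono_map (show Mono (colimit.ι d.functor U) from inferInstance)
  -- a morphism from inside `U` lifts to the piece over `U`
  have hlift : ∀ (U : S.affineOpens) {T : Over S}, Inside T U.1 → ∀ f : T ⟶ M, ∃ l : T ⟶ N U, l ≫ ιM U = f := by
    rintro U T ⟨p, hp⟩ f
    have h1 : p ≫ U.1.ι = f.left ≫ d.toBase := hp.trans (Over.w f).symm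
    exact ⟨Over.homMk ((hPB U).lift p f.left h1) (by rw [← hq, (hPB U).lift_fst_assoc, hp]),
      Over.OverMorphism.ext ((hPB U).lift_snd _ _ _)⟩
  choose e he using fun U : S.affineOpens => hlift U (inside_res M U.1) (resι M U.1)
  obtain ⟨m, hm, -⟩ := hP M (fun U => P.map (e U) (n U)) fun U V h => by
    have h1 : resMap M h ≫ e V = e U ≫ tr U V h := by
      rw [← cancel_mono (ιM V), Category.assoc, he, resMap_resι, Category.assoc, hιtr, he]
    rw [← P.map_comp, h1, P.map_comp, htr]
  have hm' : ∀ U, P.map (ιM U) m = n U := fun U => by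
    let k : N U ⟶ res M U.1 := Over.homMk (pullback.lift (colimit.ι d.functor U) (q U) (hPB U).w.symm) (by
      change _ ≫ pullback.fst M.hom U.1.ι ≫ M.hom = _
      rw [pullback.lift_fst_assoc]
      exact (hPB U).w.symm.trans (hq U))
    have hk : k ≫ resι M U.1 = ιM U := Over.OverMorphism.ext (pullback.lift_fst _ _ _)
    have hke : k ≫ e U = 𝟙 _ := by rw [← cancel_mono (ιM U), Category.assoc, he, hk, Category.id_comp]
    rw [← hk, P.map_comp, hm, ← P.map_comp, hke, P.map_id]
  refine ⟨M, m, fun T x => ?_⟩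
  choose a ha hau using fun U : S.affineOpens => (hN U).2 (res T U.1) (inside_res T U.1) (P.map (resι T U.1) x)
  have hcompat : ∀ (U V : S.affineOpens) (h : U.1 ≤ V.1), resMap T h ≫ a V ≫ ιM V = a U ≫ ιM U := by
    intro U V h
    have h1 : resMap T h ≫ a V = a U ≫ tr U V h :=
      ((hN V).2 _ ((inside_res T U.1).mono h) (P.map (resι T U.1) x)).unique
        (by rw [P.map_comp, ha, ← P.map_comp, resMap_resι]) (by rw [P.map_comp, htr, ha])
    rw [← Category.assoc, h1, Category.assoc, hιtr]
  let a₀ : T ⟶ M := Scheme.OpenCover.glueMorphismsOverOfLocallyDirected (X := T)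
    (S.directedAffineCover.pullback₁ T.hom) (fun U : S.affineOpens => (a U ≫ ιM U).left)
    (fun {U V} hUV => congrArg (fun t => t.left) (hcompat U V (leOfHom hUV)))
    (fun U => Over.w (a U ≫ ιM U))
  have ha₀ : ∀ U : S.affineOpens, resι T U.1 ≫ a₀ = a U ≫ ιM U := fun U => Over.OverMorphism.ext
    (Scheme.OpenCover.map_glueMorphismsOverOfLocallyDirected_left (X := T)
      (S.directedAffineCover.pullback₁ T.hom) (fun U : S.affineOpens => (a U ≫ ιM U).left)
      (fun {U V} hUV => congrArg (fun t => t.left) (hcompat U V (leOfHom hUV)))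
      (fun U => Over.w (a U ≫ ιM U)) U)
  refine ⟨a₀, hP.ext fun U => ?_, fun b hb => ?_⟩
  · rw [← P.map_comp, ha₀, P.map_comp, hm', ha]
  · apply Over.OverMorphism.ext
    refine Scheme.Cover.hom_ext (S.directedAffineCover.pullback₁ T.hom) _ _ fun U => ?_
    change (resι T U.1).left ≫ b.left = (resι T U.1).left ≫ a₀.left
    rw [← Over.comp_left, ← Over.comp_left, ha₀]
    obtain ⟨l, hl⟩ := hlift U (inside_res T U.1) (resι T U.1 ≫ b)
    rw [← hl, hau U l (show P.map l (n U) = P.map (resι T U.1) x by rw [← hm', ← P.map_comp, hl, P.map_comp, hb])]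

/-- Properties of the structure map of a representing object are read off over the affine opens. -/
theorem prop_of_local (P : Psh.{v} S) (Q : MorphismProperty Scheme.{u}) [IsZariskiLocalAtTarget Q]
    (M : Over S) (m : P.obj M) (hM : ∀ (T : Over S) (x : P.obj T), ∃! a : T ⟶ M, P.map a m = x)
    (hloc : ∀ U : S.affineOpens, ∃ (N : Over S) (n : P.obj N), RepOn P U.1 N n ∧
      ∀ q : N.left ⟶ (U.1 : Scheme.{u}), q ≫ U.1.ι = N.hom → Q q) :
    Q M.hom := by
  refine IsZariskiLocalAtTarget.of_openCover (𝒰 := S.directedAffineCover) fun U => ?_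
  change Q (pullback.snd M.hom U.1.ι)
  obtain ⟨N, n, hN, hQ⟩ := hloc U
  obtain ⟨q, hq⟩ := hN.1
  obtain ⟨a, ha, -⟩ := hN.2 (res M U.1) (inside_res M U.1) (P.map (resι M U.1) m)
  obtain ⟨b, hb, -⟩ := hM N n
  let b' : N ⟶ res M U.1 := Over.homMk (pullback.lift b.left q ((Over.w b).trans hq.symm)) (by
    change _ ≫ pullback.fst M.hom U.1.ι ≫ M.hom = _
    rw [pullback.lift_fst_assoc, Over.w b])
  have hb' : b' ≫ resι M U.1 = b := Over.OverMorphism.ext (pullback.lift_fst _ _ _)
  haveI : Mono (resι M U.1) := (Over.forget S).mono_of_mono_map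
    (show Mono (pullback.fst M.hom U.1.ι) from inferInstance)
  have h1 : a ≫ b' = 𝟙 _ := by
    rw [← cancel_mono (resι M U.1), Category.assoc, hb', Category.id_comp]
    exact (hM _ _).unique (by rw [P.map_comp, hb, ha]) rfl
  have h2 : b' ≫ a = 𝟙 _ := (hN.2 N hN.1 n).unique
    (by rw [P.map_comp, ha, ← P.map_comp, hb', hb]) (P.map_id _ _)
  have hE : (⟨a.left, b'.left, congrArg (fun t => t.left) h1, congrArg (fun t => t.left) h2⟩ :
      (res M U.1).left ≅ N.left).hom ≫ q = pullback.snd M.hom U.1.ι ≫ 𝟙 _ := by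
    rw [Category.comp_id, ← cancel_mono U.1.ι, Category.assoc, hq]
    exact (Over.w a).trans pullback.condition
  exact (Q.arrow_mk_iso_iff (Arrow.isoMk' (pullback.snd M.hom U.1.ι) q _ (Iso.refl _) hE)).mpr (hQ q hq)

end GrothLib.RepLocal
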