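import Groth.Agent.Lib.RepLocal.Basic

/-!
Zariski sheaves on schemes over a base: representability over affine opens may be checked on affine schemes.
-/

set_option backward.isDefEq.respectTransparency false

universe v u

open CategoryTheory CategoryTheory.Limits AlgebraicGeometry

namespace GrothLib.RepLocal

variable {S : Scheme.{u}}

/-- An open of an `S`-scheme, as an `S`-scheme. -/
noncomputable def opn (T : Over S) (V : T.left.Opens) : Over S := Over.mk (V.ι ≫ T.hom)

/-- The inclusion of an open. -/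
noncomputable def opnι (T : Over S) (V : T.left.Opens) : opn T V ⟶ T := Over.homMk V.ι rfl

/-- The inclusion between two opens. -/
noncomputable def opnMap (T : Over S) {V W : T.left.Opens} (h : V ≤ W) : opn T V ⟶ opn T W :=
  Over.homMk (T.left.homOfLE h) (Scheme.homOfLE_ι_assoc _ h _)

theorem opnMap_opnι (T : Over S) {V W : T.left.Opens} (h : V ≤ W) : opnMap T h ≫ opnι T W = opnι T V :=
  Over.OverMorphism.ext (Scheme.homOfLE_ι _ h)

instance (T : Over S) (V : T.left.Opens) : Mono (opnι T V) :=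
  (Over.forget S).mono_of_mono_map (show Mono V.ι from inferInstance)

theorem hom_ext_opens {T Z : Over S} {κ : Type u} (V : κ → T.left.Opens) (hV : TopologicalSpace.IsOpenCover V)
    {a b : T ⟶ Z} (h : ∀ i, opnι T (V i) ≫ a = opnι T (V i) ≫ b) : a = b := by
  apply Over.OverMorphism.ext
  refine Scheme.Cover.hom_ext (Scheme.openCoverOfIsOpenCover _ V hV) _ _ fun i => ?_
  exact congrArg (fun t => t.left) (h i)

theorem exists_glue_opens {T Z : Over S} {κ : Type u} (V : κ → T.left.Opens) (hV : TopologicalSpace.IsOpenCover V)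
    (a : ∀ i, opn T (V i) ⟶ Z)
    (h : ∀ i j, opnMap T (inf_le_left (a := V i) (b := V j)) ≫ a i = opnMap T inf_le_right ≫ a j) :
    ∃ b : T ⟶ Z, ∀ i, opnι T (V i) ≫ b = a i := by
  let 𝒰 := Scheme.openCoverOfIsOpenCover T.left V hV
  have hcompat : ∀ i j, pullback.fst (𝒰.f i) (𝒰.f j) ≫ (a i).left = pullback.snd (𝒰.f i) (𝒰.f j) ≫ (a j).left := by
    intro i j
    have hr : Set.range (pullback.fst (V i).ι (V j).ι ≫ (V i).ι) ⊆ Set.range (V i ⊓ V j).ι := by
      rintro _ ⟨z, rfl⟩
      rw [Scheme.Opens.range_ι]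
      refine ⟨by rw [Scheme.Hom.comp_apply]; exact ((pullback.fst (V i).ι (V j).ι) z).2, ?_⟩
      rw [pullback.condition, Scheme.Hom.comp_apply]
      exact ((pullback.snd (V i).ι (V j).ι) z).2
    let l := IsOpenImmersion.lift (V i ⊓ V j).ι (pullback.fst (V i).ι (V j).ι ≫ (V i).ι) hr
    have hl : l ≫ (V i ⊓ V j).ι = pullback.fst (V i).ι (V j).ι ≫ (V i).ι := IsOpenImmersion.lift_fac _ _ _
    have h1 : l ≫ T.left.homOfLE (inf_le_left (a := V i) (b := V j)) = pullback.fst (V i).ι (V j).ι := by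
      rw [← cancel_mono (V i).ι, Category.assoc, Scheme.homOfLE_ι, hl]
    have h2 : l ≫ T.left.homOfLE (inf_le_right (a := V i) (b := V j)) = pullback.snd (V i).ι (V j).ι := by
      rw [← cancel_mono (V j).ι, Category.assoc, Scheme.homOfLE_ι, hl, pullback.condition]
    have h3 : T.left.homOfLE (inf_le_left (a := V i) (b := V j)) ≫ (a i).left =
        T.left.homOfLE (inf_le_right (a := V i) (b := V j)) ≫ (a j).left := congrArg (fun t => t.left) (h i j)
    change pullback.fst (V i).ι (V j).ι ≫ _ = pullback.snd (V i).ι (V j).ι ≫ _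
    rw [← h1, ← h2, Category.assoc, Category.assoc, h3]
  refine ⟨Over.homMk (Scheme.Cover.glueMorphisms 𝒰 (fun i => (a i).left) hcompat) ?_, fun i => ?_⟩
  · refine Scheme.Cover.hom_ext 𝒰 _ _ fun i => ?_
    rw [Scheme.Cover.ι_glueMorphisms_assoc]
    exact Over.w (a i)
  · exact Over.OverMorphism.ext (Scheme.Cover.ι_glueMorphisms 𝒰 _ hcompat i)

/-- The sheaf axiom for open coverings. -/
def IsSheaf (P : Psh.{v} S) : Prop :=
  ∀ (T : Over S) {κ : Type u} (V : κ → T.left.Opens), TopologicalSpace.IsOpenCover V →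
    ∀ x : ∀ i, P.obj (opn T (V i)),
      (∀ i j, P.map (opnMap T (inf_le_left (a := V i) (b := V j))) (x i) = P.map (opnMap T inf_le_right) (x j)) →
        ∃! y : P.obj T, ∀ i, P.map (opnι T (V i)) y = x i

theorem IsSheaf.ext {P : Psh.{v} S} (hP : IsSheaf P) {T : Over S} {κ : Type u} (V : κ → T.left.Opens)
    (hV : TopologicalSpace.IsOpenCover V) {y y' : P.obj T}
    (h : ∀ i, P.map (opnι T (V i)) y = P.map (opnι T (V i)) y') : y = y' := by
  obtain ⟨z, -, hu⟩ := hP T V hV (fun i => P.map (opnι T (V i)) y) fun i j => by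
    rw [← P.map_comp, ← P.map_comp, opnMap_opnι, opnMap_opnι]
  exact (hu y fun i => rfl).trans (hu y' fun i => (h i).symm).symm

theorem isOpenCover_preimage (T : Over S) :
    TopologicalSpace.IsOpenCover (fun U : S.affineOpens => T.hom ⁻¹ᵁ U.1) :=
  TopologicalSpace.IsOpenCover.mk (eq_top_iff.mpr fun t _ => by
    obtain ⟨U, hU, htU, -⟩ := exists_isAffineOpen_mem_and_subset (TopologicalSpace.Opens.mem_top (T.hom t))
    exact TopologicalSpace.Opens.mem_iSup.mpr ⟨⟨U, hU⟩, htU⟩)

theorem IsSheaf.isLocal {P : Psh.{v} S} (hP : IsSheaf P) : IsLocal P := by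
  intro T x hx
  let V : S.affineOpens → T.left.Opens := fun U => T.hom ⁻¹ᵁ U.1
  let e : ∀ U : S.affineOpens, opn T (V U) ⟶ res T U.1 := fun U =>
    Over.homMk (pullback.lift (V U).ι (T.hom ∣_ U.1) (morphismRestrict_ι _ _).symm) (by
      change pullback.lift _ _ _ ≫ pullback.fst T.hom U.1.ι ≫ T.hom = (V U).ι ≫ T.hom
      rw [pullback.lift_fst_assoc])
  have he : ∀ U, e U ≫ resι T U.1 = opnι T (V U) := fun U => Over.OverMorphism.ext (pullback.lift_fst _ _ _)
  have hr : ∀ U : S.affineOpens, Set.range (pullback.fst T.hom U.1.ι) ⊆ Set.range (V U).ι := by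
    rintro U _ ⟨z, rfl⟩
    rw [Scheme.Opens.range_ι]
    change T.hom (pullback.fst T.hom U.1.ι z) ∈ U.1
    rw [← Scheme.Hom.comp_apply, pullback.condition, Scheme.Hom.comp_apply]
    exact ((pullback.snd T.hom U.1.ι) z).2
  let f : ∀ U : S.affineOpens, res T U.1 ⟶ opn T (V U) := fun U =>
    Over.homMk (IsOpenImmersion.lift (V U).ι (pullback.fst T.hom U.1.ι) (hr U))
      (IsOpenImmersion.lift_fac_assoc _ _ _ _)
  have hf : ∀ U, f U ≫ opnι T (V U) = resι T U.1 := fun U => Over.OverMorphism.ext (IsOpenImmersion.lift_fac _ _ _)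
  haveI : ∀ U : S.affineOpens, Mono (resι T U.1) := fun U => (Over.forget S).mono_of_mono_map
    (show Mono (pullback.fst T.hom U.1.ι) from inferInstance)
  obtain ⟨y, hy, hyu⟩ := hP T V (isOpenCover_preimage T) (fun U => P.map (e U) (x U)) fun U U' => by
    set W := V U ⊓ V U'
    refine hP.ext (T := opn T W) (fun R : {R : S.affineOpens // R.1 ≤ U.1 ⊓ U'.1} =>
      (opn T W).hom ⁻¹ᵁ R.1.1) (TopologicalSpace.IsOpenCover.mk (eq_top_iff.mpr fun w _ => ?_)) fun R => ?_
    · have hw : (opn T W).hom w ∈ U.1 ⊓ U'.1 := by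
        change (W.ι ≫ T.hom) w ∈ _
        rw [Scheme.Hom.comp_apply]
        exact w.2
      obtain ⟨R, hR, hwR, hRle⟩ := exists_isAffineOpen_mem_and_subset hw
      exact TopologicalSpace.Opens.mem_iSup.mpr ⟨⟨⟨R, hR⟩, hRle⟩, hwR⟩
    · simp only [← P.map_comp]
      let g : opn (opn T W) ((opn T W).hom ⁻¹ᵁ R.1.1) ⟶ res T R.1.1 :=
        Over.homMk (pullback.lift (((opn T W).hom ⁻¹ᵁ R.1.1).ι ≫ W.ι) ((opn T W).hom ∣_ R.1.1)
          ((Category.assoc _ _ _).trans (morphismRestrict_ι _ _).symm)) (by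
          change pullback.lift _ _ _ ≫ pullback.fst T.hom _ ≫ T.hom = _
          rw [pullback.lift_fst_assoc, Category.assoc]
          rfl)
      have hg : g ≫ resι T R.1.1 = opnι (opn T W) _ ≫ opnι T W := Over.OverMorphism.ext (pullback.lift_fst _ _ _)
      have h1 : (opnι (opn T W) _ ≫ opnMap T inf_le_left) ≫ e U = g ≫ resMap T (le_inf_iff.mp R.2).1 := by
        rw [← cancel_mono (resι T U.1), Category.assoc, Category.assoc, he, opnMap_opnι, Category.assoc, resMap_resι, hg]
      have h2 : (opnι (opn T W) _ ≫ opnMap T inf_le_right) ≫ e U' = g ≫ resMap T (le_inf_iff.mp R.2).2 := by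
        rw [← cancel_mono (resι T U'.1), Category.assoc, Category.assoc, he, opnMap_opnι, Category.assoc, resMap_resι,
          hg]
      rw [← Category.assoc, h1, ← Category.assoc, h2, P.map_comp, P.map_comp, hx, hx]
  refine ⟨y, fun U => ?_, fun z hz => hyu z fun U => ?_⟩
  · rw [← hf U, P.map_comp, hy, ← P.map_comp,
      show f U ≫ e U = 𝟙 _ by rw [← cancel_mono (resι T U.1), Category.assoc, he, hf, Category.id_comp], P.map_id]
  · rw [← he U, P.map_comp, hz]

/-- Universality over an open may be tested on affine schemes. -/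
theorem repOn_of_affine {P : Psh.{v} S} (hP : IsSheaf P) (U : S.Opens) (N : Over S) (n : P.obj N) (hN : Inside N U)
    (h : ∀ T : Over S, IsAffine T.left → Inside T U → ∀ x : P.obj T, ∃! a : T ⟶ N, P.map a n = x) :
    RepOn P U N n := by
  refine ⟨hN, fun T hT x => ?_⟩
  have haff : ∀ (T : Over S) (V : T.left.affineOpens), IsAffine (opn T V.1).left := fun T V => V.2
  have hcov : ∀ T : Over S, TopologicalSpace.IsOpenCover (fun V : T.left.affineOpens => V.1) := fun T =>
    TopologicalSpace.IsOpenCover.mk (iSup_affineOpens_eq_top T.left)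
  have huniq : ∀ T : Over S, Inside T U → ∀ a b : T ⟶ N, P.map a n = P.map b n → a = b := fun T hT a b hab =>
    hom_ext_opens _ (hcov T) fun V =>
      (h _ (haff T V) (hT.of_hom (opnι T V.1)) (P.map (opnι T V.1) (P.map a n))).unique
        (P.map_comp _ _ _) (by rw [P.map_comp, hab])
  choose a ha _ using fun V : T.left.affineOpens =>
    h _ (haff T V) (hT.of_hom (opnι T V.1)) (P.map (opnι T V.1) x)
  obtain ⟨b, hb⟩ := exists_glue_opens _ (hcov T) a fun V W => by
    refine huniq _ (hT.of_hom (opnι T (V.1 ⊓ W.1))) _ _ ?_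
    rw [P.map_comp, P.map_comp, ha, ha, ← P.map_comp, ← P.map_comp, opnMap_opnι, opnMap_opnι]
  have hbx : P.map b n = x := hP.ext _ (hcov T) fun V => by rw [← P.map_comp, hb, ha]
  exact ⟨b, hbx, fun c hc => huniq T hT c b (hc.trans hbx.symm)⟩

end GrothLib.RepLocal
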