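import Mathlib.AlgebraicGeometry.Limits
import Groth.Agent.Lib.RepLocal.Sheaf

/-!
Representability over a disjoint union.
-/

set_option backward.isDefEq.respectTransparency false

universe v u

open CategoryTheory CategoryTheory.Limits AlgebraicGeometry

namespace GrothLib.RepLocal

variable {S : Scheme.{u}}

/-- `n` is universal among sections over schemes over `V`. -/
def RepOver (P : Psh.{v} S) {V N : Over S} (q : N ⟶ V) (n : P.obj N) : Prop :=
  ∀ (T : Over S) (t : T ⟶ V) (x : P.obj T), ∃! a : T ⟶ N, a ≫ q = t ∧ P.map a n = x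

/-- The disjoint union over `S`. -/
noncomputable abbrev sigmaObj {κ : Type u} (V : κ → Over S) : Over S := Over.mk (Sigma.desc fun i => (V i).hom)

/-- The inclusion of a member. -/
noncomputable def sigmaInj {κ : Type u} (V : κ → Over S) (i : κ) : V i ⟶ sigmaObj V :=
  Over.homMk (Sigma.ι (fun i => (V i).left) i) (Sigma.ι_desc _ _)

theorem RepOver.sigma {P : Psh.{v} S} (hP : IsSheaf P) {κ : Type u} (V N : κ → Over S) (q : ∀ i, N i ⟶ V i)
    (n : ∀ i, P.obj (N i)) (h : ∀ i, RepOver P (q i) (n i)) :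
    ∃ (Q : sigmaObj N ⟶ sigmaObj V) (m : P.obj (sigmaObj N)), RepOver P Q m := by
  let Q : sigmaObj N ⟶ sigmaObj V := Over.homMk (Sigma.desc fun i => (q i).left ≫ Sigma.ι (fun i => (V i).left) i) (by
    refine Sigma.hom_ext _ _ fun i => ?_
    change Sigma.ι (fun i => (N i).left) i ≫ Sigma.desc _ ≫ Sigma.desc _ = Sigma.ι (fun i => (N i).left) i ≫ Sigma.desc _
    rw [Sigma.ι_desc_assoc, Category.assoc, Sigma.ι_desc, Sigma.ι_desc]
    exact Over.w (q i))
  have hQ : ∀ i, sigmaInj N i ≫ Q = q i ≫ sigmaInj V i := fun i => Over.OverMorphism.ext (Sigma.ι_desc _ _)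
  let pV : κ → (sigmaObj V).left.Opens := fun i => (Sigma.ι (fun i => (V i).left) i).opensRange
  have hpV : ∀ x, ∃ i, x ∈ pV i := fun x => by
    obtain ⟨i, y, hy⟩ := (sigmaOpenCover (fun i => (V i).left)).exists_eq x
    exact ⟨i, y, hy⟩
  have hdisj : ∀ {i j x}, x ∈ pV i → x ∈ pV j → i = j := fun {i j x} h₁ h₂ => by
    by_contra hij
    exact (disjoint_opensRange_sigmaι (fun i => (V i).left) i j hij).le_bot ⟨h₁, h₂⟩
  have hNmem : ∀ {i} (x : (sigmaObj N).left), Q.left x ∈ pV i → x ∈ (Sigma.ι (fun i => (N i).left) i).opensRange := by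
    intro i x hx
    obtain ⟨j, y, rfl⟩ := (sigmaOpenCover (fun i => (N i).left)).exists_eq x
    have h1 : Q.left (Sigma.ι (fun i => (N i).left) j y) = Sigma.ι (fun i => (V i).left) j ((q j).left y) := by
      have := congrArg (fun t : N j ⟶ sigmaObj V => t.left y) (hQ j)
      exact this
    obtain rfl : i = j := hdisj hx ⟨(q j).left y, h1.symm⟩
    exact ⟨y, rfl⟩
  -- lifts to the members
  have hliftV : ∀ {T : Over S} (t : T ⟶ sigmaObj V) (i : κ), (∀ x, t.left x ∈ pV i) →
      ∃ t' : T ⟶ V i, t' ≫ sigmaInj V i = t := by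
    intro T t i hti
    let l := IsOpenImmersion.lift (Sigma.ι (fun i => (V i).left) i) t.left (by rintro _ ⟨x, rfl⟩; exact hti x)
    refine ⟨Over.homMk l ?_, Over.OverMorphism.ext (IsOpenImmersion.lift_fac _ _ _)⟩
    rw [show (V i).hom = Sigma.ι (fun i => (V i).left) i ≫ (sigmaObj V).hom from (Over.w (sigmaInj V i)).symm,
      IsOpenImmersion.lift_fac_assoc, Over.w t]
  have hliftN : ∀ {T : Over S} (a : T ⟶ sigmaObj N) (i : κ), (∀ x, Q.left (a.left x) ∈ pV i) →
      ∃ a' : T ⟶ N i, a' ≫ sigmaInj N i = a := by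
    intro T a i hai
    let l := IsOpenImmersion.lift (Sigma.ι (fun i => (N i).left) i) a.left (by
      rintro _ ⟨x, rfl⟩; exact hNmem _ (hai x))
    refine ⟨Over.homMk l ?_, Over.OverMorphism.ext (IsOpenImmersion.lift_fac _ _ _)⟩
    rw [show (N i).hom = Sigma.ι (fun i => (N i).left) i ≫ (sigmaObj N).hom from (Over.w (sigmaInj N i)).symm,
      IsOpenImmersion.lift_fac_assoc, Over.w a]
  -- the cover of a scheme over the union
  have hcov : ∀ {T : Over S} (t : T ⟶ sigmaObj V), TopologicalSpace.IsOpenCover fun i => t.left ⁻¹ᵁ pV i :=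
    fun t => TopologicalSpace.IsOpenCover.mk (eq_top_iff.mpr fun x _ =>
      TopologicalSpace.Opens.mem_iSup.mpr (hpV (t.left x)))
  have hempty : ∀ {T : Over S} (t : T ⟶ sigmaObj V) {i j : κ}, i ≠ j →
      IsEmpty (opn T (t.left ⁻¹ᵁ pV i ⊓ t.left ⁻¹ᵁ pV j)).left :=
    by intro T t i j hij; exact ⟨fun z => hij (hdisj z.2.1 z.2.2)⟩
  have hsub : ∀ {T : Over S} [IsEmpty T.left] (x y : P.obj T), x = y := fun {T} _ x y =>
    hP.ext (κ := PEmpty.{u + 1}) (fun i => i.elim)
      (TopologicalSpace.IsOpenCover.mk (eq_top_iff.mpr fun x _ => isEmptyElim x)) fun i => i.elim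
  choose e he using fun i => hliftN (opnι (sigmaObj N) (Q.left ⁻¹ᵁ pV i)) i fun x => x.2
  obtain ⟨m, hm, -⟩ := hP (sigmaObj N) _ (hcov Q) (fun i => P.map (e i) (n i)) fun i j => by
    by_cases hij : i = j
    · subst hij; rfl
    · haveI := hempty Q hij
      exact hsub _ _
  have hm' : ∀ i, P.map (sigmaInj N i) m = n i := fun i => by
    let k : N i ⟶ opn (sigmaObj N) (Q.left ⁻¹ᵁ pV i) :=
      Over.homMk (IsOpenImmersion.lift (Q.left ⁻¹ᵁ pV i).ι (sigmaInj N i).left (by
        rintro _ ⟨y, rfl⟩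
        refine (Scheme.Opens.range_ι _).ge ?_
        exact ⟨(q i).left y, (congrArg (fun t : N i ⟶ sigmaObj V => t.left y) (hQ i)).symm⟩)) (by
        change _ ≫ (Q.left ⁻¹ᵁ pV i).ι ≫ (sigmaObj N).hom = _
        rw [IsOpenImmersion.lift_fac_assoc]
        exact Over.w (sigmaInj N i))
    have hk : k ≫ opnι _ _ = sigmaInj N i := Over.OverMorphism.ext (IsOpenImmersion.lift_fac _ _ _)
    haveI : Mono (sigmaInj N i) := (Over.forget S).mono_of_mono_map
      (show Mono (Sigma.ι (fun i => (N i).left) i) from inferInstance)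
    have hke : k ≫ e i = 𝟙 _ := by rw [← cancel_mono (sigmaInj N i), Category.assoc, he, hk, Category.id_comp]
    rw [← hk, P.map_comp, hm, ← P.map_comp, hke, P.map_id]
  refine ⟨Q, m, fun T t x => ?_⟩
  choose t' ht' using fun i => hliftV (opnι T (t.left ⁻¹ᵁ pV i) ≫ t) i fun y => y.2
  choose a ha hau using fun i => h i _ (t' i) (P.map (opnι T (t.left ⁻¹ᵁ pV i)) x)
  obtain ⟨b, hb⟩ := exists_glue_opens (Z := sigmaObj N) _ (hcov t) (fun i => a i ≫ sigmaInj N i) fun i j => by
    by_cases hij : i = j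
    · subst hij; rfl
    · haveI := hempty t hij
      exact Over.OverMorphism.ext (isInitialOfIsEmpty.hom_ext _ _)
  have hbQ : b ≫ Q = t := hom_ext_opens _ (hcov t) fun i => by
    rw [← Category.assoc, hb, Category.assoc, hQ, ← Category.assoc, (ha i).1, ht']
  refine ⟨b, ⟨hbQ, hP.ext _ (hcov t) fun i => by rw [← P.map_comp, hb, P.map_comp, hm', (ha i).2]⟩,
    fun c ⟨hc₁, hc₂⟩ => hom_ext_opens _ (hcov t) fun i => ?_⟩
  rw [hb]
  obtain ⟨c', hc'⟩ := hliftN (opnι T (t.left ⁻¹ᵁ pV i) ≫ c) i fun y => by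
    rw [← Scheme.Hom.comp_apply, ← Over.comp_left, Category.assoc, hc₁]
    exact y.2
  haveI : Mono (sigmaInj V i) := (Over.forget S).mono_of_mono_map
    (show Mono (Sigma.ι (fun i => (V i).left) i) from inferInstance)
  have : c' = a i := hau i c' ⟨by
    rw [← cancel_mono (sigmaInj V i), Category.assoc, ← hQ, reassoc_of% hc', hc₁, ht'],
    by rw [← hm' i, ← P.map_comp, hc', P.map_comp, hc₂]⟩
  rw [← this, hc']

end GrothLib.RepLocal
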