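import Mathlib.CategoryTheory.Monoidal.Cartesian.Over
import Groth.Agent.Lib.DescentHom.Basic
import Groth.Agent.Lib.RepLocal.Sheaf

/-!
The sheaf condition for faithfully flat maps between affine schemes over a base.
-/

set_option backward.isDefEq.respectTransparency false

universe v u

open CategoryTheory CategoryTheory.Limits MonoidalCategory CartesianMonoidalCategory AlgebraicGeometry

namespace GrothLib.RepLocal

variable {S : Scheme.{u}}

/-- Sections descend along faithfully flat maps between affine schemes. -/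
def IsFpqcSheaf (P : Psh.{v} S) : Prop :=
  ∀ (T' T : Over S) (c : T' ⟶ T), IsAffine T'.left → IsAffine T.left → Flat c.left → Surjective c.left →
    ∀ x : P.obj T', (∀ (T'' : Over S) (p q : T'' ⟶ T'), p ≫ c = q ≫ c → P.map p x = P.map q x) →
      ∃! y : P.obj T, P.map c y = x

/-- Faithfully flat maps between affine schemes stay effective epimorphisms after base change. -/
theorem effectiveEpi_affine {T' T Y P : Scheme.{u}} [IsAffine T'] [IsAffine T] (c : T' ⟶ T) [Flat c] [Surjective c]
    {g : Y ⟶ T} {p₁ : P ⟶ Y} {p₂ : P ⟶ T'} (h : IsPullback p₁ p₂ g c) : EffectiveEpi p₁ := by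
  refine DescentHom.effectiveEpi_of_cover c (fun V hV => ⟨c ⁻¹ᵁ V, ?_, ?_⟩) g p₁ p₂ h
  · exact c.isCompact_preimage hV.isCompact
  · exact Set.image_preimage_eq _ c.surjective

/-- Morphisms out of a base change descend. -/
theorem existsUnique_desc_affine {T' T : Scheme.{u}} [IsAffine T'] [IsAffine T] (c : T' ⟶ T) [Flat c] [Surjective c]
    {Q P : Over S} {p₁ : P ⟶ Q} (g : Q.left ⟶ T) (p₂ : P.left ⟶ T') (h : IsPullback p₁.left p₂ g c) {Z : Over S}
    (φ : P ⟶ Z) (hφ : ∀ (P' : Over S) (a b : P' ⟶ P), a ≫ p₁ = b ≫ p₁ → a ≫ φ = b ≫ φ) :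
    ∃! y : Q ⟶ Z, p₁ ≫ y = φ := by
  haveI := effectiveEpi_affine c h
  have hd : ∀ {P' : Scheme.{u}} (a b : P' ⟶ P.left), a ≫ p₁.left = b ≫ p₁.left → a ≫ φ.left = b ≫ φ.left := by
    intro P' a b hab
    let P'' : Over S := Over.mk (a ≫ P.hom)
    have hb : b ≫ P.hom = a ≫ P.hom := by
      rw [← Over.w p₁, ← reassoc_of% hab]
    exact congrArg (fun t => t.left) (hφ P'' (Over.homMk a rfl) (Over.homMk b hb) (Over.OverMorphism.ext hab))
  let y := EffectiveEpi.desc p₁.left φ.left hd
  have hy : p₁.left ≫ y = φ.left := EffectiveEpi.fac p₁.left φ.left hd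
  have hw : y ≫ Z.hom = Q.hom := by
    rw [← cancel_epi p₁.left, reassoc_of% hy, Over.w φ, Over.w p₁]
  refine ⟨Over.homMk y hw, Over.OverMorphism.ext hy, fun y' hy' => Over.OverMorphism.ext ?_⟩
  exact EffectiveEpi.uniq p₁.left φ.left hd y'.left (congrArg (fun t => t.left) hy')

end GrothLib.RepLocal
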