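import Mathlib.RingTheory.Flat.FaithfullyFlat.Algebra
import Mathlib.AlgebraicGeometry.Morphisms.Flat
import Groth.Agent.Lib.AlgSp.AffineDescent
import Groth.Agent.Lib.HomScheme.Affine
import Groth.Agent.Lib.RepLocal.FpqcSheaf

/-!
Effective faithfully flat descent of affine representing objects over an affine base.
-/

set_option backward.isDefEq.respectTransparency false

universe v u

open CategoryTheory CategoryTheory.Limits AlgebraicGeometry
open scoped TensorProduct
open GrothLib.HomScheme

namespace GrothLib.RepLocal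

open Algebra.TensorProduct (includeLeft includeRight productMap)

variable {S : Scheme.{u}} {R : Type u} [CommRing R] (j : Spec (CommRingCat.of R) ⟶ S) [Mono j]

/-- Equality of restrictions may be tested on algebras. -/
theorem map_eq_of_specOver {P : Psh.{v} S} (hP : IsSheaf P) {D : Type u} [CommRing D] [Algebra R D] {T'' : Over S}
    (p q : T'' ⟶ specOver j D) {y z : P.obj (specOver j D)}
    (h : ∀ (E : Type u) [CommRing E] [Algebra R E] (i : specOver j E ⟶ T'') (α α' : D →ₐ[R] E),
      i ≫ p = specHom j α → i ≫ q = specHom j α' → P.map (specHom j α) y = P.map (specHom j α') z) :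
    P.map p y = P.map q z := by
  refine hP.ext (fun V : T''.left.affineOpens => V.1)
    (TopologicalSpace.IsOpenCover.mk (iSup_affineOpens_eq_top _)) fun V => ?_
  haveI : IsAffine (opn T'' V.1).left := V.2
  obtain ⟨E, _, _, ⟨e⟩⟩ := exists_iso_specOver j (opn T'' V.1)
    ((opnι T'' V.1 ≫ p).left ≫ Spec.map (CommRingCat.ofHom (algebraMap R D)))
    ((Category.assoc _ _ _).trans (Over.w (opnι T'' V.1 ≫ p)))
  obtain ⟨α, hα⟩ := specHom_surjective j (e.inv ≫ opnι T'' V.1 ≫ p)
  obtain ⟨α', hα'⟩ := specHom_surjective j (e.inv ≫ opnι T'' V.1 ≫ q)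
  have key := h E (e.inv ≫ opnι T'' V.1) α α' ((Category.assoc _ _ _).trans hα.symm)
    ((Category.assoc _ _ _).trans hα'.symm)
  have e1 : P.map (e.hom ≫ specHom j α) y = P.map (e.hom ≫ specHom j α') z := by
    rw [P.map_comp, key, ← P.map_comp]
  rw [← P.map_comp, ← P.map_comp]
  rwa [hα, hα', Iso.hom_inv_id_assoc, Iso.hom_inv_id_assoc] at e1

theorem flat_surjective_specHom {C D : Type u} [CommRing C] [Algebra R C] [CommRing D] [Algebra R D]
    (f : C →ₐ[R] D) (hf : f.toRingHom.FaithfullyFlat) :
    Flat (specHom j f).left ∧ Surjective (specHom j f).left := by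
  refine ⟨Flat.SpecMap_iff.mpr hf.flat, ⟨?_⟩⟩
  exact (RingHom.FaithfullyFlat.iff_flat_and_comap_surjective.mp hf).2

theorem exists_descent {P : Psh.{v} S} (hP : IsSheaf P) (hP' : IsFpqcSheaf P) {B C : Type u} [CommRing B]
    [Algebra R B] [Module.FaithfullyFlat R B] [CommRing C] [Algebra R C] (β : B →ₐ[R] C)
    (n' : P.obj (specOver j C))
    (univ : ∀ (D : Type u) [CommRing D] [Algebra R D] (t : B →ₐ[R] D) (x : P.obj (specOver j D)),
      ∃! g : C →ₐ[R] D, g.comp β = t ∧ P.map (specHom j g) n' = x) :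
    ∃ (C₀ : Type u) (_ : CommRing C₀) (_ : Algebra R C₀) (n₀ : P.obj (specOver j C₀)),
      ∀ (D : Type u) [CommRing D] [Algebra R D] (x : P.obj (specOver j D)),
        ∃! g : C₀ →ₐ[R] D, P.map (specHom j g) n₀ = x := by
  obtain ⟨θ, ⟨hθβ, hθn⟩, -⟩ := univ (C ⊗[R] B) includeRight (P.map (specHom j includeLeft) n')
  have hcoc : (Algebra.TensorProduct.map θ (AlgHom.id R B)).comp θ =
      (Algebra.TensorProduct.map (includeLeft : C →ₐ[R] C ⊗[R] B) (AlgHom.id R B)).comp θ := by
    have hgen : ∀ (k : C →ₐ[R] C ⊗[R] B),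
        ((Algebra.TensorProduct.map k (AlgHom.id R B)).comp θ).comp β = includeRight ∧
        P.map (specHom j ((Algebra.TensorProduct.map k (AlgHom.id R B)).comp θ)) n' =
          P.map (specHom j (includeLeft.comp k)) n' := by
      intro k
      constructor
      · rw [AlgHom.comp_assoc, hθβ, Algebra.TensorProduct.map_comp_includeRight, AlgHom.comp_id]
      · rw [← specHom_comp, P.map_comp, hθn, ← P.map_comp, specHom_comp, Algebra.TensorProduct.map_comp_includeLeft]
    refine (univ _ includeRight (P.map (specHom j (includeLeft.comp θ)) n')).unique (hgen θ) ⟨(hgen _).1, ?_⟩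
    rw [(hgen _).2, ← specHom_comp, ← specHom_comp, P.map_comp, P.map_comp, hθn]
  have hu : (productMap (AlgHom.id R C) β).comp θ = AlgHom.id R C := by
    refine (univ C β n').unique ⟨?_, ?_⟩ ⟨AlgHom.id_comp _, ?_⟩
    · rw [AlgHom.comp_assoc, hθβ, Algebra.TensorProduct.productMap_right]
    · rw [← specHom_comp, P.map_comp, hθn, ← P.map_comp, specHom_comp, Algebra.TensorProduct.productMap_left]
      rw [show specHom j (AlgHom.id R C) = 𝟙 _ from Over.OverMorphism.ext (Spec.map_id _), P.map_id]
    · rw [show specHom j (AlgHom.id R C) = 𝟙 _ from Over.OverMorphism.ext (Spec.map_id _), P.map_id]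
  have hbij := GrothLib.AlgSp.bijective_productMap_equalizer β θ (fun b => AlgHom.congr_fun hθβ b) hcoc hu
  let C₀ := AlgHom.equalizer θ (includeLeft : C →ₐ[R] C ⊗[R] B)
  have hC₀ : θ.comp C₀.val = (includeLeft : C →ₐ[R] C ⊗[R] B).comp C₀.val := AlgHom.ext fun c => c.2
  let e := AlgEquiv.ofBijective _ hbij
  have hgen : ∀ {E : Type u} [CommRing E] [Algebra R E] (f f' : C →ₐ[R] E), f.comp C₀.val = f'.comp C₀.val →
      f.comp β = f'.comp β → f = f' := by
    intro E _ _ f f' h₁ h₂
    have h3 : f.comp (productMap C₀.val β) = f'.comp (productMap C₀.val β) := by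
      apply Algebra.TensorProduct.ext
      · rw [AlgHom.comp_assoc, AlgHom.comp_assoc, Algebra.TensorProduct.productMap_left, h₁]
      · exact (by rw [AlgHom.comp_assoc, AlgHom.comp_assoc, Algebra.TensorProduct.productMap_right, h₂] :
          (f.comp (productMap C₀.val β)).comp includeRight = (f'.comp (productMap C₀.val β)).comp includeRight)
    refine AlgHom.ext fun c => ?_
    obtain ⟨z, rfl⟩ := hbij.2 c
    exact AlgHom.congr_fun h3 z
  have hval : (C₀.val).toRingHom.FaithfullyFlat := by
    have h1 : (Algebra.TensorProduct.includeLeftRingHom : C₀ →+* C₀ ⊗[R] B).FaithfullyFlat :=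
      (RingHom.faithfullyFlat_algebraMap_iff (R := C₀) (S := C₀ ⊗[R] B)).mpr inferInstance
    have e1 : (C₀.val).toRingHom = e.toRingEquiv.toRingHom.comp Algebra.TensorProduct.includeLeftRingHom := by
      refine RingHom.ext fun c => ?_
      change _ = productMap C₀.val β (c ⊗ₜ 1)
      rw [Algebra.TensorProduct.productMap_apply_tmul, map_one, mul_one]
      rfl
    rw [e1]
    exact RingHom.FaithfullyFlat.stableUnderComposition _ _ h1 (RingHom.FaithfullyFlat.of_bijective e.bijective)
  obtain ⟨hfl, hsj⟩ := flat_surjective_specHom j C₀.val hval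
  -- the universal section descends
  obtain ⟨n₀, hn₀, -⟩ := hP' (specOver j C) (specOver j C₀) (specHom j C₀.val) (inferInstanceAs (IsAffine (Spec _)))
    (inferInstanceAs (IsAffine (Spec _))) hfl hsj n' fun T'' p q hpq => map_eq_of_specOver j hP p q
      fun E _ _ i α α' hα hα' => by
    have h0 : α.comp C₀.val = α'.comp C₀.val := specHom_injective j (by
      rw [← specHom_comp, ← specHom_comp, ← hα, ← hα', Category.assoc, Category.assoc, hpq])
    let r : C ⊗[R] B →ₐ[R] E := productMap α (α'.comp β)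
    have hr : r.comp θ = α' := hgen _ _ (by
      rw [AlgHom.comp_assoc, hC₀, ← AlgHom.comp_assoc, Algebra.TensorProduct.productMap_left, h0]) (by
      rw [AlgHom.comp_assoc, hθβ, Algebra.TensorProduct.productMap_right])
    rw [← hr, ← specHom_comp, P.map_comp, hθn, ← P.map_comp, specHom_comp, Algebra.TensorProduct.productMap_left]
  refine ⟨C₀, inferInstance, inferInstance, n₀, fun D _ _ x => ?_⟩
  let iL : D →ₐ[R] D ⊗[R] B := includeLeft
  have hiL : iL.toRingHom.FaithfullyFlat :=
    (RingHom.faithfullyFlat_algebraMap_iff (R := D) (S := D ⊗[R] B)).mpr inferInstance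
  obtain ⟨hfl', hsj'⟩ := flat_surjective_specHom j iL hiL
  obtain ⟨g', ⟨hg'β, hg'n⟩, hg'u⟩ := univ (D ⊗[R] B) includeRight (P.map (specHom j iL) x)
  haveI := hfl'
  haveI := hsj'
  haveI : IsAffine (specOver j D).left := inferInstanceAs (IsAffine (Spec _))
  haveI : IsAffine (specOver j (D ⊗[R] B)).left := inferInstanceAs (IsAffine (Spec _))
  haveI : IsAffine (specOver j C₀).left := inferInstanceAs (IsAffine (Spec _))
  obtain ⟨a, ha, -⟩ := existsUnique_desc_affine (specHom j iL).left (p₁ := specHom j iL) (𝟙 _) (𝟙 _)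
    (IsPullback.of_vert_isIso ⟨by simp⟩) (specHom j (g'.comp C₀.val)) fun T'' p q hpq => by
    refine hom_ext_opens (fun V : T''.left.affineOpens => V.1)
      (TopologicalSpace.IsOpenCover.mk (iSup_affineOpens_eq_top _)) fun V => ?_
    haveI : IsAffine (opn T'' V.1).left := V.2
    obtain ⟨E, _, _, ⟨ε⟩⟩ := exists_iso_specOver j (opn T'' V.1)
      ((opnι T'' V.1 ≫ p).left ≫ Spec.map (CommRingCat.ofHom (algebraMap R (D ⊗[R] B))))
      ((Category.assoc _ _ _).trans (Over.w (opnι T'' V.1 ≫ p)))
    obtain ⟨α, hα⟩ := specHom_surjective j (ε.inv ≫ opnι T'' V.1 ≫ p)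
    obtain ⟨α', hα'⟩ := specHom_surjective j (ε.inv ≫ opnι T'' V.1 ≫ q)
    have h0 : α.comp iL = α'.comp iL := specHom_injective j (by
      rw [← specHom_comp, ← specHom_comp, hα, hα', Category.assoc, Category.assoc, Category.assoc, Category.assoc, hpq])
    let r : C ⊗[R] B →ₐ[R] E := productMap (α.comp g') (α'.comp includeRight)
    have hr : r.comp θ = α'.comp g' := by
      refine (univ E (α'.comp includeRight) (P.map (specHom j (α'.comp g')) n')).unique
        ⟨by rw [AlgHom.comp_assoc, hθβ, Algebra.TensorProduct.productMap_right], ?_⟩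
        ⟨by rw [AlgHom.comp_assoc, hg'β], rfl⟩
      rw [← specHom_comp, P.map_comp, hθn, ← P.map_comp, specHom_comp, Algebra.TensorProduct.productMap_left,
        ← specHom_comp, P.map_comp, hg'n, ← P.map_comp, specHom_comp, h0, ← specHom_comp, P.map_comp, ← hg'n,
        ← P.map_comp, specHom_comp]
    have h1 : (α.comp g').comp C₀.val = (α'.comp g').comp C₀.val := by
      rw [← hr, AlgHom.comp_assoc r, hC₀, ← AlgHom.comp_assoc, Algebra.TensorProduct.productMap_left]
    have h2 : specHom j α ≫ specHom j (g'.comp C₀.val) = specHom j α' ≫ specHom j (g'.comp C₀.val) := by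
      rw [specHom_comp, specHom_comp, ← AlgHom.comp_assoc, ← AlgHom.comp_assoc, h1]
    rw [← cancel_epi ε.inv]
    rw [hα, hα'] at h2
    simpa only [Category.assoc] using h2
  obtain ⟨g, rfl⟩ := specHom_surjective j a
  have hinj : Function.Injective iL := hiL.injective
  have hg : P.map (specHom j g) n₀ = x := by
    obtain ⟨y, -, hyu⟩ := hP' (specOver j (D ⊗[R] B)) (specOver j D) (specHom j iL) inferInstance inferInstance
      hfl' hsj' (P.map (specHom j iL) x) fun T'' p q hpq => by rw [← P.map_comp, ← P.map_comp, hpq]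
    refine (hyu _ ?_).trans (hyu x rfl).symm
    change P.map (specHom j iL) (P.map (specHom j g) n₀) = _
    rw [← P.map_comp, ha, ← specHom_comp, P.map_comp, hn₀, hg'n]
  refine ⟨g, hg, fun g₁ hg₁ => ?_⟩
  have key : ∀ g₂ : C₀ →ₐ[R] D, P.map (specHom j g₂) n₀ = x → iL.comp g₂ = g'.comp C₀.val := by
    intro g₂ h₂
    let h : C →ₐ[R] D ⊗[R] B := (productMap (iL.comp g₂) includeRight).comp e.symm.toAlgHom
    have hcv : h.comp C₀.val = iL.comp g₂ := by
      refine AlgHom.ext fun c => ?_
      change productMap (iL.comp g₂) includeRight (e.symm (C₀.val c)) = iL (g₂ c)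
      rw [show e.symm (C₀.val c) = c ⊗ₜ 1 from e.symm_apply_eq.mpr (by
        change _ = productMap C₀.val β (c ⊗ₜ 1)
        rw [Algebra.TensorProduct.productMap_apply_tmul, map_one, mul_one]), Algebra.TensorProduct.productMap_apply_tmul,
        map_one, mul_one]
      rfl
    have hcb : h.comp β = includeRight := by
      refine AlgHom.ext fun b => ?_
      change productMap (iL.comp g₂) includeRight (e.symm (β b)) = _
      rw [show e.symm (β b) = 1 ⊗ₜ b from e.symm_apply_eq.mpr (by
        change _ = productMap C₀.val β (1 ⊗ₜ b)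
        rw [Algebra.TensorProduct.productMap_apply_tmul, map_one, one_mul]), Algebra.TensorProduct.productMap_apply_tmul,
        map_one, one_mul]
    have hn : P.map (specHom j h) n' = P.map (specHom j iL) x := by
      rw [← hn₀, ← P.map_comp, specHom_comp, hcv, ← specHom_comp, P.map_comp, h₂]
    rw [← hcv, hg'u h ⟨hcb, hn⟩]
  exact AlgHom.ext fun c => hinj (AlgHom.congr_fun ((key g₁ hg₁).trans (key g hg).symm) c)

end GrothLib.RepLocal
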