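import Mathlib.AlgebraicGeometry.Morphisms.Affine
import Groth.Agent.Lib.RepLocal.AffineDescent
import Groth.Agent.Lib.RepLocal.Sigma
import Groth.Agent.Lib.DiagGrp.ChartCover

/-!
Presheaves which are representable by affine schemes fpqc locally are representable by affine schemes.
-/

set_option backward.isDefEq.respectTransparency false

universe v u

open CategoryTheory CategoryTheory.Limits AlgebraicGeometry
open GrothLib.HomScheme

namespace GrothLib.RepLocal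

variable {S : Scheme.{u}} {P : Psh.{v} S}

theorem RepOver.of_iso {V N V' N' : Over S} {q : N ⟶ V} {n : P.obj N} (h : RepOver P q n) (eN : N' ≅ N)
    (eV : V' ≅ V) : RepOver P (eN.hom ≫ q ≫ eV.inv) (P.map eN.hom n) := fun T t x => by
  obtain ⟨a, ⟨ha₁, ha₂⟩, hau⟩ := h T (t ≫ eV.hom) x
  refine ⟨a ≫ eN.inv, ⟨by rw [Category.assoc, eN.inv_hom_id_assoc, reassoc_of% ha₁, eV.hom_inv_id, Category.comp_id],
    by rw [← P.map_comp, Category.assoc, eN.inv_hom_id, Category.comp_id, ha₂]⟩, fun b ⟨hb₁, hb₂⟩ => ?_⟩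
  rw [← hau (b ≫ eN.hom) ⟨by rw [← hb₁]; simp, by rw [P.map_comp, hb₂]⟩, Category.assoc, eN.hom_inv_id, Category.comp_id]

/-- A Zariski and fpqc sheaf which is fpqc locally affine is representable by a scheme affine over the base. -/
theorem exists_rep_of_fpqc_local (hP : IsSheaf P) (hP' : IsFpqcSheaf P)
    {Pc : ∀ (W : Scheme.{u}), (W ⟶ S) → Prop} (hcov : ∀ U : S.Opens, IsAffineOpen U → DiagGrp.CoverBy Pc U)
    (hchart : ∀ {W : Scheme.{u}} [IsAffine W] (f : W ⟶ S), Pc W f →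
      ∃ (N : Over S) (q : N ⟶ Over.mk f) (n : P.obj N), IsAffine N.left ∧ RepOver P q n) :
    ∃ (M : Over S) (m : P.obj M), (∀ (T : Over S) (x : P.obj T), ∃! a : T ⟶ M, P.map a m = x) ∧
      IsAffineHom M.hom := by
  have hloc : ∀ U : S.affineOpens, ∃ (N : Over S) (n : P.obj N), RepOn P U.1 N n ∧
      ∀ q : N.left ⟶ (U.1 : Scheme.{u}), q ≫ U.1.ι = N.hom → IsAffineHom q := by
    intro U
    have hU : IsAffineOpen U.1 := U.2
    haveI : IsAffine (U.1 : Scheme.{u}) := hU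
    haveI : Mono hU.fromSpec := inferInstance
    obtain ⟨W, q, _, _, _, hR⟩ := hcov U.1 hU
    choose R hwR hRa hRP using hR
    haveI : CompactSpace W := (quasiCompact_iff_compactSpace q).mp inferInstance
    obtain ⟨t, ht⟩ := isCompact_univ.elim_finite_subcover (fun w : W => (R w : Set W)) (fun w => (R w).isOpen)
      fun w _ => Set.mem_iUnion.mpr ⟨w, hwR w⟩
    let κ : Type u := {w // w ∈ t}
    haveI : ∀ i : κ, IsAffine (R i.1 : Scheme.{u}) := fun i => hRa i.1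
    choose N qN n hNaff hn using fun i : κ => hchart ((R i.1).ι ≫ q ≫ U.1.ι) (hRP i.1)
    obtain ⟨Q, m, hm⟩ := RepOver.sigma hP (fun i : κ => Over.mk ((R i.1).ι ≫ q ≫ U.1.ι)) N qN n hn
    let V' : Over S := sigmaObj fun i : κ => Over.mk ((R i.1).ι ≫ q ≫ U.1.ι)
    haveI : ∀ i, IsAffine (N i).left := hNaff
    haveI : IsAffine (sigmaObj N).left := inferInstanceAs (IsAffine (∐ fun i => (N i).left))
    haveI : IsAffine V'.left := inferInstanceAs (IsAffine (∐ fun i : κ => (R i.1 : Scheme.{u})))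
    let d : V'.left ⟶ W := Sigma.desc fun i : κ => (R i.1).ι
    have hd : d ≫ q ≫ U.1.ι = V'.hom := Sigma.hom_ext _ _ fun i => by
      change Sigma.ι (fun i : κ => (R i.1 : Scheme.{u})) i ≫ Sigma.desc _ ≫ _ = _
      rw [Sigma.ι_desc_assoc]
      exact (Over.w (sigmaInj (fun i : κ => Over.mk ((R i.1).ι ≫ q ≫ U.1.ι)) i)).symm
    haveI : Flat d := inferInstanceAs (Flat (Sigma.desc fun i : κ => (R i.1).ι))
    haveI : Surjective d := ⟨fun w => by
      obtain ⟨i, hi, hwi⟩ := Set.mem_iUnion₂.mp (ht (Set.mem_univ w))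
      refine ⟨Sigma.ι (fun i : κ => (R i.1 : Scheme.{u})) ⟨i, hi⟩ ⟨w, hwi⟩, ?_⟩
      exact congrArg (fun g : (R i : Scheme.{u}) ⟶ W => g ⟨w, hwi⟩) (Sigma.ι_desc (fun i : κ => (R i.1).ι) ⟨i, hi⟩)⟩
    have hVU : (d ≫ q ≫ hU.isoSpec.hom) ≫ hU.fromSpec = V'.hom := by
      rw [← hU.isoSpec_inv_ι]
      simp only [Category.assoc, Iso.hom_inv_id_assoc]
      exact hd
    obtain ⟨B, _, _, ⟨eV⟩⟩ := exists_iso_specOver hU.fromSpec V' (d ≫ q ≫ hU.isoSpec.hom) hVU
    have hQU : (Q.left ≫ d ≫ q ≫ hU.isoSpec.hom) ≫ hU.fromSpec = (sigmaObj N).hom := by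
      rw [Category.assoc, hVU]
      exact Over.w Q
    obtain ⟨C, _, _, ⟨eN⟩⟩ := exists_iso_specOver hU.fromSpec (sigmaObj N) (Q.left ≫ d ≫ q ≫ hU.isoSpec.hom) hQU
    have hrep := hm.of_iso eN.symm eV.symm
    obtain ⟨β, hβ⟩ := specHom_surjective hU.fromSpec (eN.symm.hom ≫ Q ≫ eV.symm.inv)
    let w := Spec.map (CommRingCat.ofHom (algebraMap Γ(S, U.1) B))
    have hw : w = eV.inv.left ≫ d ≫ q ≫ hU.isoSpec.hom := by
      rw [← cancel_mono hU.fromSpec, Category.assoc, hVU]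
      exact (Over.w eV.inv).symm
    haveI : IsIso eV.inv.left := inferInstanceAs (IsIso ((Over.forget S).map eV.inv))
    haveI hwf : Flat w := by rw [hw]; infer_instance
    haveI hws : Surjective w := by rw [hw]; infer_instance
    haveI : Module.FaithfullyFlat Γ(S, U.1) B := RingHom.faithfullyFlat_algebraMap_iff.mp
      (RingHom.FaithfullyFlat.iff_flat_and_comap_surjective.mpr ⟨Flat.SpecMap_iff.mp hwf, hws.surj⟩)
    obtain ⟨C₀, _, _, n₀, hn₀⟩ := exists_descent hU.fromSpec hP hP' β (P.map eN.symm.hom m) fun D _ _ t x => by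
      obtain ⟨a, ⟨ha₁, ha₂⟩, hau⟩ := hrep (specOver hU.fromSpec D) (specHom hU.fromSpec t) x
      obtain ⟨g, rfl⟩ := specHom_surjective hU.fromSpec a
      refine ⟨g, ⟨specHom_injective hU.fromSpec (by rw [← specHom_comp, hβ]; exact ha₁), ha₂⟩, fun g' ⟨h₁, h₂⟩ =>
        specHom_injective hU.fromSpec (hau _ ⟨?_, h₂⟩)⟩
      rw [← h₁, ← specHom_comp, hβ]
    let w₀ := Spec.map (CommRingCat.ofHom (algebraMap Γ(S, U.1) C₀))
    have hw₀ : (w₀ ≫ hU.isoSpec.inv) ≫ U.1.ι = (specOver hU.fromSpec C₀).hom := by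
      rw [Category.assoc, hU.isoSpec_inv_ι]
      rfl
    refine ⟨specOver hU.fromSpec C₀, n₀, repOn_of_affine hP _ _ _ ⟨_, hw₀⟩ fun T hT hTU x => ?_, fun q' hq' => ?_⟩
    · obtain ⟨qT, hqT⟩ := hTU
      haveI := hT
      obtain ⟨D, _, _, ⟨e⟩⟩ := exists_iso_specOver hU.fromSpec T (qT ≫ hU.isoSpec.hom) (by
        rw [← hU.isoSpec_inv_ι, Category.assoc, Iso.hom_inv_id_assoc, hqT])
      obtain ⟨g, hg, hgu⟩ := hn₀ D (P.map e.inv x)
      refine ⟨e.hom ≫ specHom hU.fromSpec g, ?_, fun a' ha' => ?_⟩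
      · change P.map (e.hom ≫ specHom hU.fromSpec g) n₀ = x
        rw [P.map_comp, hg, ← P.map_comp, e.hom_inv_id, P.map_id]
      · obtain ⟨g', hg'⟩ := specHom_surjective hU.fromSpec (e.inv ≫ a')
        obtain rfl : g' = g := hgu g' (show _ = _ by rw [hg', P.map_comp, ha'])
        rw [hg', Iso.hom_inv_id_assoc]
    · haveI : IsAffine (specOver hU.fromSpec C₀).left := inferInstanceAs (IsAffine (Spec _))
      exact isAffineHom_of_isAffine _
  obtain ⟨M, m, hM⟩ := exists_representing P hP.isLocal fun U => (hloc U).imp fun _ h => h.imp fun _ h => h.1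
  exact ⟨M, m, hM, prop_of_local P @IsAffineHom M m hM hloc⟩

end GrothLib.RepLocal
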